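import Cfsg.Agent.Golay.Transfer
import Cfsg.Agent.Leech.Triples

/-!
# Pairs of points relative to two points and a pair
-/

set_option autoImplicit false
set_option linter.style.haveILetI false

namespace Cfsg.Lib.Golay.PairOrbits

open Cfsg Cfsg.Lib.Golay Cfsg.Lib.PermCert Cfsg.Lib.Leech
open scoped Pointwise

/-- Permutations fixing two points and a pair. -/
def gens : List PP := [(13828356339669031054753061737696716425611880341836779126134613169234443803382019165430908782080936820404020903936, 13828319642711282617257934071703088246381738586961313661158282094330152442300941660495151959168014610867211534336), (13828273773298909680916226080935449775549780649987502296817277805776689351958227310505695442446402240062915936256, 13828374687098031334087363100438003357581013000508540572848657967726826003248492058904774996198460436324779360256), (13828292120167952414998681054689783777853012004032361825923897386244298320910444340077687664422103656767059787776, 13828246250195643293503625956198519690880871259777110921096773695104308185178307450448052232584602041561125093376)]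

/-- Roots and search orders of the orbits. -/
def orbits : List (ℕ × List (ℕ × ℕ × ℕ)) := [
  (24, [(1310720, 24, 0), (65664, 24, 1), (4456448, 24, 2), (65600, 1310720, 0), (4608, 1310720, 1), (520, 1310720, 2), (524320, 65664, 1), (4224, 65664, 2), (98304, 4456448, 0), (4160, 4456448, 1), (768, 4456448, 2), (16896, 65600, 0), (655360, 65600, 1), (2101248, 65600, 2), (8320, 4608, 0), (3072, 4608, 1), (32800, 4608, 2), (262272, 520, 0), (66560, 520, 1), (4194336, 520, 2), (2080, 524320, 0), (524304, 524320, 2), (8200, 4224, 0), (32896, 4224, 2), (524800, 98304, 0), (557056, 98304, 1), (135168, 98304, 2), (24576, 4160, 0), (133120, 4160, 1), (2129920, 4160, 2), (144, 768, 0), (1280, 768, 1), (1048608, 768, 2), (384, 16896, 0), (9216, 16896, 1), (8224, 16896, 2), (4128, 655360, 0), (4194312, 655360, 1), (589824, 655360, 2), (139264, 2101248, 0), (18432, 2101248, 1), (32832, 2101248, 2), (1032, 8320, 0), (2097184, 8320, 1), (2176, 8320, 2), (6291456, 3072, 0), (17408, 3072, 2), (526336,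 32800, 0), (32784, 32800, 1), (131088, 32800, 2), (65544, 262272, 0), (640, 262272, 2), (2097664, 66560, 0), (1572864, 66560, 1), (20480, 66560, 2), (34816, 4194336, 0), (80, 4194336, 1), (272, 4194336, 2), (4196352, 2080, 0), (262160, 2080, 1), (1040, 2080, 2), (136, 524304, 1), (786432, 524304, 2), (263168, 8200, 0), (2162688, 8200, 1), (524296, 32896, 0), (131200, 32896, 2), (160, 524800, 0), (32776, 557056, 1), (12288, 135168, 0), (2105344, 24576, 1), (10240, 24576, 2), (4198400, 133120, 0), (49152, 2129920, 1), (131136, 2129920, 2), (1048584, 144, 0), (2097168, 1280, 0), (1048832, 1280, 1), (1064960, 1280, 2), (2112, 1048608, 0), (528, 1048608, 1), (288, 384, 1), (1048704, 384, 2), (2098176, 9216, 0), (3145728, 9216, 1), (2064, 8224, 2), (294912, 4194312, 0), (4194560, 4194312, 2), (544, 589824, 0), (528384, 589824, 2), (5120, 139264, 0), (67584, 139264, 2), (270336, 18432, 1), (540672, 32832, 0), (163840, 32832, 1), (2228224, 32832, 2), (2359296, 1032, 0), (1114112, 1032, 1),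 (4210688, 1032, 2), (16400, 2097184, 1), (262176, 2176, 1), (1152, 2176, 2), (16448, 6291456, 1), (320, 6291456, 2), (2097408, 17408, 0), (1056768, 17408, 1), (262152, 526336, 1), (525312, 526336, 2), (393216, 32784, 2), (1052672, 131088, 0), (4194432, 131088, 1), (327680, 131088, 2), (262656, 65544, 0), (1056, 640, 1), (96, 2097664, 2), (8448, 20480, 0), (40960, 20480, 2), (4718592, 34816, 0), (132096, 34816, 2), (1048592, 272, 0), (4227072, 4196352, 0), (262208, 4196352, 1), (278528, 1040, 2), (65568, 136, 1), (4104, 786432, 1), (131584, 2162688, 0), (2056, 160, 0), (48, 160, 1), (4325376, 32776, 2), (2099200, 12288, 1), (2113536, 2105344, 1), (4195328, 10240, 0), (33024, 4198400, 2), (524544, 49152, 0), (66048, 1048584, 1), (1179648, 2097168, 0), (16512, 2097168, 1), (8704, 1064960, 1), (72, 1048704, 0), (5242880, 2064, 0), (36864, 294912, 1), (1050624, 5120, 1), (4194816, 67584, 0), (2560, 270336, 2), (532480, 540672, 2), (196608, 163840, 2), (576, 2359296, 2), (8256, 4210688, 1),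 (4112, 262176, 1), (2097160, 1152, 0), (16640, 16448, 0), (131328, 320, 1), (1048640, 2097408, 2), (1088, 1056768, 0), (69632, 262152, 1), (81920, 132096, 2), (65792, 278528, 0), (4194368, 4325376, 1), (264, 524544, 1)]),
  (40, [(264192, 40, 0), (65552, 40, 1), (4194320, 40, 2), (4259840, 264192, 0), (266240, 264192, 1), (1536, 264192, 2), (1049088, 65552, 0), (524416, 65552, 1), (1081344, 4194320, 0), (192, 4194320, 1), (262400, 4194320, 2), (33280, 4259840, 0), (524352, 4259840, 1), (4352, 4259840, 2), (73728, 266240, 0), (6144, 266240, 1), (2097280, 1536, 0), (1049600, 1536, 1), (16416, 1536, 2), (131080, 1081344, 2), (16392, 192, 0), (131104, 192, 1), (33792, 33280, 1), (2621440, 524352, 2), (8208, 4352, 0), (2304, 4352, 1), (4202496, 6144, 0), (2097216, 1049600, 0), (147456, 33792, 2)]),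
  (10, [(262146, 10, 0), (65538, 10, 1), (4194308, 10, 2), (4098, 262146, 1), (516, 262146, 2), (514, 65538, 0), (524290, 65538, 1), (4100, 65538, 2), (32772, 4194308, 0), (68, 4194308, 1), (258, 4194308, 2), (8194, 4098, 0), (2050, 4098, 1), (132, 516, 0), (1028, 516, 1), (34, 516, 2), (130, 514, 0), (1026, 514, 1), (36, 514, 2), (524292, 524290, 2), (8196, 4100, 0), (2052, 4100, 1), (32770, 4100, 2), (131074, 32772, 2), (16388, 68, 0), (131076, 68, 1), (2097154, 68, 2), (18, 258, 0), (1048580, 258, 2), (4194306, 2050, 0), (12, 132, 0), (2097156, 1028, 0), (16386, 1028, 2), (20, 34, 2), (1048578, 1026, 1), (262148, 2052, 1), (65540, 131074, 2), (260, 16388, 0), (66, 4194306, 1)])]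

/-- The octads through the four base points. -/
def octFour : List ℕ := octMasks.filter fun o => o.testBit 23 && o.testBit 0 && o.testBit 1 && o.testBit 2

/-- The pair lies with the four base points in an octad. -/
def flag (m : ℕ) : Bool := octFour.any fun o => o &&& m == m

/-- The pairs avoiding the first two base points. -/
def pairMasks : List ℕ :=
  ((List.range 23).flatMap fun j => (List.range j).map fun i => 2 ^ i + 2 ^ j).filter fun m => !m.testBit 0

/-- The check of a search order. -/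
def chainOK : List ℕ → List (ℕ × ℕ × ℕ) → Bool
  | _, [] => true
  | seen, (m, p, k) :: l =>
    seen.contains p && Nat.blt k gens.length && img (gens.getD k (0, 0)) p == m && chainOK (m :: seen) l

/-- The invariant of a pair. -/
def cls (m : ℕ) : ℕ × Bool := (pc (m &&& 6), flag m)

theorem gens_ok : (gens.all fun g => preserves g && (ap g.1 23 == 23) && (ap g.1 0 == 0) && (img g 6 == 6)) = true := by
  decide +kernel

theorem orbits_ok : (orbits.all fun e => chainOK [e.1] e.2) = true := by decide +kernel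

/-- The members of an orbit. -/
def members (e : ℕ × List (ℕ × ℕ × ℕ)) : List ℕ := e.1 :: e.2.map (·.1)

theorem orbits_cover : (pairMasks.all fun m => m == 6 ||
    orbits.any (fun e => decide (cls e.1 = cls m) && (members e).contains m)) = true := by decide +kernel

theorem orbits_distinct : (orbits.map fun e => cls e.1).Nodup := by decide +kernel

theorem counts : pairMasks.countP (fun m => m &&& 6 == 0 && flag m) = 30 ∧
    pairMasks.countP (fun m => m &&& 6 == 0 && !flag m) = 160 := by decide +kernel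

theorem pairMasks_lt : (pairMasks.all fun m => decide (m < 2 ^ 24)) = true := by decide +kernel

theorem pairMasks_nodup : pairMasks.Nodup := by decide +kernel

/-- Elements fixing the base configuration. -/
def Fixing (g : Equiv.Perm GolayPt) : Prop := g ∈ M24 ∧ g pN = pN ∧ g pO = pO ∧ g • pts 6 = pts 6

theorem chain_sound (root : ℕ) : ∀ (l : List (ℕ × ℕ × ℕ)) (seen : List ℕ),
    (∀ m ∈ seen, ∃ g, Fixing g ∧ g • pts root = pts m) → chainOK seen l = true →
    ∀ m ∈ l.map (·.1), ∃ g, Fixing g ∧ g • pts root = pts m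
  | [], _, _, _ => by simp
  | (m, p, k) :: l, seen, hs, h => by
    simp only [chainOK, Bool.and_eq_true, List.contains_iff_mem, beq_iff_eq, Nat.blt_eq] at h
    obtain ⟨⟨⟨hp, hk⟩, hm⟩, hl⟩ := h
    rw [List.getD_eq_getElem _ _ hk] at hm
    have hg := List.all_eq_true.mp gens_ok _ (List.getElem_mem hk)
    simp only [Bool.and_eq_true, beq_iff_eq] at hg
    obtain ⟨⟨⟨hpres, h23⟩, h0⟩, h6⟩ := hg
    have hv : valid 24 gens[k] = true := by
      simp only [preserves, Bool.and_eq_true] at hpres; exact hpres.1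
    have hfix : Fixing (toP gens[k]) := ⟨toP_mem_M24 hpres,
      pidx_injective (by rw [pidx_toP hv]; exact h23), pidx_injective (by rw [pidx_toP hv]; exact h0),
      by rw [← pts_img hv, h6]⟩
    have hm' : ∃ g, Fixing g ∧ g • pts root = pts m := by
      obtain ⟨g, ⟨g1, g2, g3, g4⟩, ge⟩ := hs p hp
      obtain ⟨k1, k2, k3, k4⟩ := hfix
      exact ⟨toP gens[k] * g, ⟨mul_mem k1 g1, by simp [g2, k2], by simp [g3, k3], by rw [mul_smul, g4, k4]⟩,
        by rw [mul_smul, ge, ← pts_img hv, hm]⟩
    intro x hx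
    rcases List.mem_cons.mp hx with rfl | hx
    · exact hm'
    · exact chain_sound root l (m :: seen) (fun y hy => by
        rcases List.mem_cons.mp hy with rfl | hy
        exacts [hm', hs y hy]) hl x hx

theorem orbit_base {m m' : ℕ} (hm : m ∈ pairMasks) (hm' : m' ∈ pairMasks) (h6 : m ≠ 6) (h6' : m' ≠ 6)
    (hc : cls m = cls m') : ∃ g, Fixing g ∧ g • pts m = pts m' := by
  have key : ∀ m ∈ pairMasks, m ≠ 6 → ∃ e ∈ orbits, cls e.1 = cls m ∧ ∃ g, Fixing g ∧ g • pts e.1 = pts m := by
    intro m hm h6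
    have h := List.all_eq_true.mp orbits_cover m hm
    simp only [Bool.or_eq_true, beq_iff_eq, h6, false_or, List.any_eq_true, Bool.and_eq_true, decide_eq_true_eq,
      List.contains_iff_mem] at h
    obtain ⟨e, he, hce, hmem⟩ := h
    refine ⟨e, he, hce, ?_⟩
    have hroot : ∃ g, Fixing g ∧ g • pts e.1 = pts e.1 :=
      ⟨1, ⟨one_mem _, rfl, rfl, one_smul _ _⟩, one_smul _ _⟩
    rcases List.mem_cons.mp hmem with rfl | hx
    · exact hroot
    · exact chain_sound e.1 e.2 [e.1] (fun y hy => by rw [List.mem_singleton.mp hy]; exact hroot)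
        (List.all_eq_true.mp orbits_ok e he) m hx
  obtain ⟨e, he, hce, g, ⟨g1, g2, g3, g4⟩, ge⟩ := key m hm h6
  obtain ⟨e', he', hce', k, ⟨k1, k2, k3, k4⟩, ke⟩ := key m' hm' h6'
  obtain rfl : e = e' := List.inj_on_of_nodup_map orbits_distinct he he' (hce.trans (hc.trans hce'.symm))
  refine ⟨k * g⁻¹, ⟨mul_mem k1 (inv_mem g1), ?_, ?_, ?_⟩, ?_⟩
  · rw [Equiv.Perm.mul_apply, show g⁻¹ pN = pN by rw [Equiv.Perm.inv_eq_iff_eq, g2], k2]
  · rw [Equiv.Perm.mul_apply, show g⁻¹ pO = pO by rw [Equiv.Perm.inv_eq_iff_eq, g3], k3]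
  · rw [mul_smul, inv_smul_eq_iff.mpr g4.symm, k4]
  · rw [mul_smul, ← ge, inv_smul_smul, ke]

theorem flag_iff (m : ℕ) (hm : m < 2 ^ 24) :
    flag m = true ↔ ∃ o ∈ octads, pN ∈ o ∧ pO ∈ o ∧ pts 6 ∪ pts m ⊆ o := by
  have hpi : pidx pN = 23 ∧ pidx pO = 0 := ⟨rfl, rfl⟩
  have h6 : pts 6 = {pI, pJ} := by decide +kernel
  have hIJ : pidx pI = 1 ∧ pidx pJ = 2 := by decide +kernel
  simp only [flag, octFour, List.any_eq_true, List.mem_filter, Bool.and_eq_true, beq_iff_eq]
  constructor
  · rintro ⟨o, ⟨ho, ⟨⟨h23, h0⟩, h1⟩, h2⟩, hsub⟩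
    have hlt : o < 2 ^ 24 := lt_of_inCode (mem_octMasks.mp ho).1
    refine ⟨pts o, mk_mem_octMasks.mp (by rwa [mk_pts hlt]), mem_pts.mpr (hpi.1 ▸ h23), mem_pts.mpr (hpi.2 ▸ h0),
      Finset.union_subset ?_ fun p hp => ?_⟩
    · rw [h6]
      simp [Finset.insert_subset_iff, hIJ.1, hIJ.2, h1, h2]
    · rw [← hsub] at hp
      simp only [mem_pts, Nat.testBit_and, Bool.and_eq_true] at hp ⊢
      exact hp.1
  · rintro ⟨o, ho, hN, hO, hsub⟩
    have hI : pI ∈ o := hsub (Finset.mem_union_left _ (by rw [h6]; simp))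
    have hJ : pJ ∈ o := hsub (Finset.mem_union_left _ (by rw [h6]; simp))
    refine ⟨Cfsg.Lib.Golay.mk o, ⟨mk_mem_octMasks.mpr ho, ⟨⟨?_, ?_⟩, ?_⟩, ?_⟩, ?_⟩
    · exact hpi.1 ▸ (testBit_mk o pN).mpr hN
    · exact hpi.2 ▸ (testBit_mk o pO).mpr hO
    · exact hIJ.1 ▸ (testBit_mk o pI).mpr hI
    · exact hIJ.2 ▸ (testBit_mk o pJ).mpr hJ
    · refine eq_of_pts_eq (Nat.and_lt_two_pow _ hm) hm ?_
      rw [pts_land', pts_mk]
      exact Finset.inter_eq_right.mpr fun p hp => hsub (Finset.mem_union_right _ hp)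
where
  pts_land' {a b : ℕ} : pts (a &&& b) = pts a ∩ pts b := by ext p; simp [Nat.testBit_and]

/-- The condition on pairs avoiding two points. -/
def Avoid (p q : GolayPt) (t : Finset GolayPt) : Prop := t.card = 2 ∧ p ∉ t ∧ q ∉ t

/-- The octad condition. -/
def InOctad (p q : GolayPt) (s t : Finset GolayPt) : Prop := ∃ o ∈ octads, p ∈ o ∧ q ∈ o ∧ s ∪ t ⊆ o

theorem mem_pairMasks {t : Finset GolayPt} : Avoid pN pO t ↔ Cfsg.Lib.Golay.mk t ∈ pairMasks := by
  constructor
  · rintro ⟨hc, hN, hO⟩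
    obtain ⟨a, b, hab, rfl⟩ := Finset.card_eq_two.mp hc
    have key : ∀ a b : GolayPt, a ≠ pN → a ≠ pO → b ≠ pN → b ≠ pO → a ≠ b →
        Cfsg.Lib.Golay.mk {a, b} ∈ pairMasks := by decide +kernel
    simp only [Finset.mem_insert, Finset.mem_singleton, not_or] at hN hO
    exact key a b (Ne.symm hN.1) (Ne.symm hO.1) (Ne.symm hN.2) (Ne.symm hO.2) hab
  · intro h
    have := List.all_eq_true.mp (show (pairMasks.all fun m => decide ((pts m).card = 2 ∧ pN ∉ pts m ∧ pO ∉ pts m)) = true
      by decide +kernel) _ h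
    simp only [decide_eq_true_eq, pts_mk] at this
    exact this

theorem base_counts : {t : Finset GolayPt | Avoid pN pO t ∧ Disjoint (pts 6) t ∧ InOctad pN pO (pts 6) t}.ncard = 30 ∧
    {t : Finset GolayPt | Avoid pN pO t ∧ Disjoint (pts 6) t ∧ ¬ InOctad pN pO (pts 6) t}.ncard = 160 := by
  have hlt : ∀ m ∈ pairMasks, m < 2 ^ 24 := fun m hm => by simpa using List.all_eq_true.mp pairMasks_lt m hm
  have hdis : ∀ m, m < 2 ^ 24 → ((m &&& 6 == 0) = true ↔ Disjoint (pts 6) (pts m)) := fun m hm => by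
    rw [beq_iff_eq, disjoint_comm, Finset.disjoint_iff_inter_eq_empty, ← flag_iff.pts_land']
    have h0 : pts 0 = ∅ := by ext p; simp
    exact ⟨fun e => by rw [e, h0], fun e => eq_of_pts_eq (Nat.and_lt_two_pow _ (by norm_num)) (by norm_num) (e.trans h0.symm)⟩
  refine ⟨?_, ?_⟩
  · rw [← counts.1, ← ncard_masks pairMasks_nodup hlt]
    congr 1
    ext t
    simp only [Set.mem_image, Set.mem_ofPred_eq, Bool.and_eq_true]
    constructor
    · rintro ⟨ha, hd, ho⟩
      exact ⟨_, ⟨mem_pairMasks.mp ha, (hdis _ (mk_lt t)).mpr (by rwa [pts_mk]),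
        (flag_iff _ (mk_lt t)).mpr (by rw [pts_mk]; exact ho)⟩, pts_mk t⟩
    · rintro ⟨m, ⟨hm, hd, ho⟩, rfl⟩
      exact ⟨mem_pairMasks.mpr (by rwa [mk_pts (hlt m hm)]), (hdis _ (hlt m hm)).mp hd, (flag_iff _ (hlt m hm)).mp ho⟩
  · rw [← counts.2, ← ncard_masks pairMasks_nodup hlt]
    congr 1
    ext t
    simp only [Set.mem_image, Set.mem_ofPred_eq, Bool.and_eq_true, Bool.not_eq_true']
    constructor
    · rintro ⟨ha, hd, ho⟩
      exact ⟨_, ⟨mem_pairMasks.mp ha, (hdis _ (mk_lt t)).mpr (by rwa [pts_mk]), Bool.eq_false_iff.mpr fun e =>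
        ho (by have := (flag_iff _ (mk_lt t)).mp e; rwa [pts_mk] at this)⟩, pts_mk t⟩
    · rintro ⟨m, ⟨hm, hd, ho⟩, rfl⟩
      exact ⟨mem_pairMasks.mpr (by rwa [mk_pts (hlt m hm)]), (hdis _ (hlt m hm)).mp hd,
        fun e => Bool.eq_false_iff.mp ho ((flag_iff _ (hlt m hm)).mpr e)⟩

theorem s1638 (p q : GolayPt) (hpq : p ≠ q) (s : Finset GolayPt) (hs : Avoid p q s) :
    {t : Finset GolayPt | Avoid p q t ∧ Disjoint s t ∧ InOctad p q s t}.ncard = 30 ∧
    {t : Finset GolayPt | Avoid p q t ∧ Disjoint s t ∧ ¬ InOctad p q s t}.ncard = 160 ∧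
    ∀ t t' : Finset GolayPt, Avoid p q t → Avoid p q t' → t ≠ s → t' ≠ s → (s ∩ t).card = (s ∩ t').card →
      (InOctad p q s t ↔ InOctad p q s t') →
      ∃ g : Equiv.Perm GolayPt, g ∈ M24 ∧ g p = p ∧ g q = q ∧ g • s = s ∧ g • t = t' := by
  obtain ⟨hsc, hps, hqs⟩ := hs
  obtain ⟨a, b, hab, rfl⟩ := Finset.card_eq_two.mp hsc
  simp only [Finset.mem_insert, Finset.mem_singleton, not_or] at hps hqs
  obtain ⟨σ, hσ, hp, hq, ha, hb⟩ := four_points p q a b hpq hps.1 hps.2 hqs.1 hqs.2 hab
  have h6 : σ • ({a, b} : Finset GolayPt) = pts 6 := by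
    rw [show pts 6 = {pI, pJ} by decide +kernel, Finset.smul_finset_insert, Finset.smul_finset_singleton,
      Equiv.Perm.smul_def, Equiv.Perm.smul_def, ha, hb]
  have hav : ∀ t, Avoid pN pO (σ • t) ↔ Avoid p q t := fun t => by
    simp only [Avoid, Finset.card_smul_finset, ← hp, ← hq]
    rw [← Equiv.Perm.smul_def, ← Equiv.Perm.smul_def, Finset.smul_mem_smul_finset_iff,
      Finset.smul_mem_smul_finset_iff]
  have hdj : ∀ t, Disjoint (pts 6) (σ • t) ↔ Disjoint ({a, b} : Finset GolayPt) t := fun t => by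
    rw [← h6, Finset.disjoint_iff_inter_eq_empty, Finset.disjoint_iff_inter_eq_empty, ← Finset.smul_finset_inter,
      Finset.smul_finset_eq_empty]
  have hin : ∀ t, InOctad pN pO (pts 6) (σ • t) ↔ InOctad p q {a, b} t := fun t => by
    constructor
    · rintro ⟨o, ho, hN, hO, hsub⟩
      refine ⟨σ⁻¹ • o, smul_mem_octads (inv_mem hσ) ho, ?_, ?_, ?_⟩
      · rw [Finset.mem_inv_smul_finset_iff, Equiv.Perm.smul_def, hp]; exact hN
      · rw [Finset.mem_inv_smul_finset_iff, Equiv.Perm.smul_def, hq]; exact hO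
      · intro x hx
        rw [Finset.mem_inv_smul_finset_iff]
        refine hsub ?_
        rw [← h6, ← Finset.smul_finset_union]
        exact Finset.smul_mem_smul_finset hx
    · rintro ⟨o, ho, hN, hO, hsub⟩
      refine ⟨σ • o, smul_mem_octads hσ ho, hp ▸ Finset.smul_mem_smul_finset hN,
        hq ▸ Finset.smul_mem_smul_finset hO, ?_⟩
      rw [← h6, ← Finset.smul_finset_union]
      exact Finset.smul_finset_subset_smul_finset hsub
  obtain ⟨c30, c160⟩ := base_counts
  refine ⟨?_, ?_, fun t t' ht ht' hts hts' hcard hio => ?_⟩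
  · rw [← c30]; exact ncard_smul_congr σ fun t => by rw [hav, hdj, hin]
  · rw [← c160]; exact ncard_smul_congr σ fun t => by rw [hav, hdj, hin]
  · have hne : ∀ t, t ≠ ({a, b} : Finset GolayPt) → Cfsg.Lib.Golay.mk (σ • t) ≠ 6 := fun t ht e => ht <| by
      have := congrArg pts e
      rw [pts_mk, ← h6] at this
      exact MulAction.injective σ this
    have hcls : cls (Cfsg.Lib.Golay.mk (σ • t)) = cls (Cfsg.Lib.Golay.mk (σ • t')) := by
      refine Prod.ext ?_ (Bool.eq_iff_iff.mpr ?_)
      · simp only [cls, pc_eq_card, flag_iff.pts_land', pts_mk]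
        rw [← h6, Finset.inter_comm, card_smul_inter, Finset.inter_comm (σ • t'), card_smul_inter, hcard]
      · simp only [cls]
        rw [flag_iff _ (mk_lt _), flag_iff _ (mk_lt _), pts_mk, pts_mk]
        exact ((hin t).trans hio).trans (hin t').symm
    obtain ⟨g, ⟨g1, g2, g3, g4⟩, ge⟩ := orbit_base (mem_pairMasks.mp ((hav t).mpr ht))
      (mem_pairMasks.mp ((hav t').mpr ht')) (hne t hts) (hne t' hts') hcls
    rw [pts_mk, pts_mk] at ge
    refine ⟨σ⁻¹ * g * σ, mul_mem (mul_mem (inv_mem hσ) g1) hσ, ?_, ?_, ?_, ?_⟩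
    · rw [Equiv.Perm.mul_apply, Equiv.Perm.mul_apply, hp, g2, Equiv.Perm.inv_eq_iff_eq, hp]
    · rw [Equiv.Perm.mul_apply, Equiv.Perm.mul_apply, hq, g3, Equiv.Perm.inv_eq_iff_eq, hq]
    · rw [mul_smul, mul_smul, h6, g4, ← h6, inv_smul_smul]
    · rw [mul_smul, mul_smul, ge, inv_smul_smul]

end Cfsg.Lib.Golay.PairOrbits
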